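import Groth.Agent.Lib.SymAlg11.Sheaf
import Groth.Agent.Lib.RelSpecB.Basic
import Groth.Agent.Lib.Omega12.BaseChange
import Mathlib.LinearAlgebra.SymmetricAlgebra.Basic
import Mathlib.Algebra.TrivSqZeroExt.Basic

/-!
# Differentials of a vector bundle

`isBaseChange_D_of_isSymmetricAlgebra`, `isIso_pullback_to_differentials`.
-/

set_option autoImplicit false
set_option backward.isDefEq.respectTransparency false
set_option backward.isDefEq.respectTransparency.types false
set_option linter.style.haveILetI false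

universe u

open CategoryTheory CategoryTheory.Limits AlgebraicGeometry TopologicalSpace Opposite TensorProduct

namespace Groth.Agent.OmegaVB12

set_option synthInstance.maxHeartbeats 400000 in
/-- The differentials of a symmetric algebra are the base change of the module. -/
theorem isBaseChange_D_of_isSymmetricAlgebra {R M B : Type u} [CommRing R] [AddCommGroup M] [Module R M] [CommRing B]
    [Algebra R B] {ι : M →ₗ[R] B} (h : IsSymmetricAlgebra ι) :
    IsBaseChange B ((KaehlerDifferential.D R B).toLinearMap ∘ₗ ι) := by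
  let g : M →ₗ[R] TrivSqZeroExt B (B ⊗[R] M) :=
    { toFun := fun m => TrivSqZeroExt.inl (ι m) + TrivSqZeroExt.inr ((1 : B) ⊗ₜ m)
      map_add' := fun x y => TrivSqZeroExt.ext (by simp) (by simp [TensorProduct.tmul_add])
      map_smul' := fun r x => TrivSqZeroExt.ext (by simp) (by simp [TensorProduct.tmul_smul]) }
  let l : B →ₐ[R] TrivSqZeroExt B (B ⊗[R] M) := (SymmetricAlgebra.lift g).comp h.equiv.symm.toAlgHom
  have hl : ∀ m, l (ι m) = g m := fun m => by
    show SymmetricAlgebra.lift g (h.equiv.symm (ι m)) = g m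
    rw [h.equiv_symm_apply, SymmetricAlgebra.lift_ι_apply]
  have hind : ∀ (P : B → Prop), (∀ r, P (algebraMap R B r)) → (∀ m, P (ι m)) → (∀ a b, P a → P b → P (a * b)) →
      (∀ a b, P a → P b → P (a + b)) → ∀ b, P b := fun P h₁ h₂ h₃ h₄ b => by
    obtain ⟨z, rfl⟩ := h.2 b
    induction z using SymmetricAlgebra.induction with
    | algebraMap r => rw [AlgHom.commutes]; exact h₁ r
    | ι x => rw [SymmetricAlgebra.lift_ι_apply]; exact h₂ x
    | mul a b ha hb => rw [map_mul]; exact h₃ _ _ ha hb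
    | add a b ha hb => rw [map_add]; exact h₄ _ _ ha hb
  have hfst : ∀ b, TrivSqZeroExt.fst (l b) = b := by
    refine hind _ (fun r => ?_) (fun m => ?_) (fun a b ha hb => ?_) fun a b ha hb => ?_
    · rw [AlgHom.commutes]; rfl
    · rw [hl]; simp [g]
    · rw [map_mul, TrivSqZeroExt.fst_mul, ha, hb]
    · rw [map_add, TrivSqZeroExt.fst_add, ha, hb]
  let δ : Derivation R B (B ⊗[R] M) := Derivation.mk'
    { toFun := fun b => TrivSqZeroExt.snd (l b)
      map_add' := fun a b => by rw [map_add, TrivSqZeroExt.snd_add]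
      map_smul' := fun r b => by rw [map_smul, TrivSqZeroExt.snd_smul]; rfl }
    fun a b => by
      show TrivSqZeroExt.snd (l (a * b)) = _
      rw [map_mul, TrivSqZeroExt.snd_mul, hfst, hfst, op_smul_eq_smul]
      rfl
  have hδ : ∀ m, δ (ι m) = (1 : B) ⊗ₜ m := fun m => by
    show TrivSqZeroExt.snd (l (ι m)) = _
    rw [hl]; simp [g]
  let ψ : B ⊗[R] M →ₗ[B] KaehlerDifferential R B :=
    LinearMap.liftBaseChange B ((KaehlerDifferential.D R B).toLinearMap ∘ₗ ι)
  have h1 : ∀ m, ψ ((1 : B) ⊗ₜ m) = KaehlerDifferential.D R B (ι m) := fun m =>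
    LinearMap.liftBaseChange_one_tmul _ _ _
  have hD : ∀ b, ψ (δ b) = KaehlerDifferential.D R B b := by
    refine hind _ (fun r => ?_) (fun m => ?_) (fun a b ha hb => ?_) fun a b ha hb => ?_
    · rw [Derivation.map_algebraMap, map_zero, Derivation.map_algebraMap]
    · rw [hδ, h1]
    · rw [Derivation.leibniz, map_add, map_smul, map_smul, ha, hb, Derivation.leibniz]
    · rw [map_add, map_add, ha, hb, map_add]
  refine IsBaseChange.of_equiv (LinearEquiv.ofLinear ψ δ.liftKaehlerDifferential ?_ ?_) h1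
  · refine Derivation.liftKaehlerDifferential_unique _ _ (Derivation.ext fun b => ?_)
    show ψ (δ.liftKaehlerDifferential (KaehlerDifferential.D R B b)) = KaehlerDifferential.D R B b
    rw [Derivation.liftKaehlerDifferential_comp_D, hD]
  · refine LinearMap.ext fun z => ?_
    induction z using TensorProduct.induction_on with
    | zero => simp
    | add x y hx hy => simp only [map_add, hx, hy]
    | tmul b m =>
      rw [show b ⊗ₜ[R] m = b • ((1 : B) ⊗ₜ m) by rw [TensorProduct.smul_tmul', smul_eq_mul, mul_one], map_smul,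
        map_smul, LinearMap.comp_apply, h1, Derivation.liftKaehlerDifferential_comp_D, hδ]
      rfl

variable {S : Scheme.{u}}

theorem isIso_pullback_to_differentials {E : S.Modules} (hE : Coh.IsQCoh E) {A : RelSpec.QCAlg S}
    {j : E ⟶ A.toModule} (hA : RelSpec.IsSymAlg E A j) {Ω' : A.spec.Modules} {d : OmegaSh.Der A.π Ω'}
    (hd : OmegaSh.IsUniversal d) (φ : (Scheme.Modules.pullback A.π).obj E ⟶ Ω')
    (hφ : ∀ (U : S.Opens) (t : Γ(E, U)) (t' : Γ(A.spec, A.π ⁻¹ᵁ U)),
      A.gammaMap.app (op U) t' = j.app U t →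
        φ.app (A.π ⁻¹ᵁ U) (OmegaSh.pullSect A.π E U t) = d.app (A.π ⁻¹ᵁ U) t') : IsIso φ := by
  haveI := RelSpecB.isIso_gammaMap A
  let θ := Omega12.adjMap φ
  have h2 := PullBC11.isIso_of_isBC θ hE (Omega12.isQCoh_receptacle A.π hd) fun y => ?_
  · simp only [θ, Equiv.symm_apply_apply] at h2
    exact h2
  obtain ⟨U, hU, hyU, -⟩ := exists_isAffineOpen_mem_and_subset (X := S) (x := A.π y) (U := ⊤) trivial
  have hW : IsAffineOpen (A.π ⁻¹ᵁ U) := (A.π_preimage U hU) ▸ isAffineOpen_opensRange (A.ι U hU)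
  refine ⟨U, hU, A.π ⁻¹ᵁ U, hW, le_rfl, hyU, ?_⟩
  let γ : Γ(A.spec, A.π ⁻¹ᵁ U) →+* A.presheaf.obj (op U) := (A.gammaMap.app (op U)).hom
  have hγ : Function.Bijective γ := ConcreteCategory.bijective_of_isIso (A.gammaMap.app (op U))
  have hstr : ∀ r : Γ(S, U), γ (A.π.app U r) = (A.str.app (op U)).hom r := fun r =>
    ConcreteCategory.congr_hom (NatTrans.congr_app A.π_c_gammaMap (op U)) r
  letI := (A.π.appLE U (A.π ⁻¹ᵁ U) le_rfl).hom.toAlgebra
  have halg : ∀ r : Γ(S, U), algebraMap Γ(S, U) Γ(A.spec, A.π ⁻¹ᵁ U) r = A.π.app U r := fun r => by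
    show A.π.appLE U (A.π ⁻¹ᵁ U) le_rfl r = _
    rw [← Scheme.Hom.app_eq_appLE]
  choose ι₀ hι₀ using fun t : Γ(E, U) => hγ.2 (j.app U t)
  let ι : Γ(E, U) →ₗ[Γ(S, U)] Γ(A.spec, A.π ⁻¹ᵁ U) :=
    { toFun := ι₀
      map_add' := fun a b => hγ.1 (by rw [map_add γ, hι₀, hι₀, hι₀]; exact map_add (j.app U).hom a b)
      map_smul' := fun r a => hγ.1 (by
        rw [RingHom.id_apply, Algebra.smul_def, map_mul γ, halg, hstr, hι₀, hι₀]
        exact j.app_smul r a) }
  have hsym : IsSymmetricAlgebra ι := by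
    have hb := SymAlg11.bijective_liftOn hE hA U hU
    have key : SymAlg11.liftOn A j U = γ.comp (SymmetricAlgebra.lift ι).toRingHom := by
      refine SymAlg11.symHom_ext (fun r => ?_) fun m => ?_
      · rw [SymAlg11.liftOn_algebraMap, RingHom.comp_apply]
        show _ = γ (SymmetricAlgebra.lift ι (algebraMap Γ(S, U) _ r))
        rw [AlgHom.commutes, halg, hstr]
      · rw [SymAlg11.liftOn_ι, RingHom.comp_apply]
        show _ = γ (SymmetricAlgebra.lift ι (SymmetricAlgebra.ι _ _ m))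
        rw [SymmetricAlgebra.lift_ι_apply]
        exact (hι₀ m).symm
    rw [key, RingHom.coe_comp] at hb
    exact (Function.Bijective.of_comp_iff' hγ _).1 hb
  have hbc := isBaseChange_D_of_isSymmetricAlgebra hsym
  let e := Omega12.sectLinEquiv A.π hd hW hU le_rfl
  letI := PullBC11.baseModule (g := A.π) Ω' (le_refl (A.π ⁻¹ᵁ U))
  haveI : IsScalarTower Γ(S, U) Γ(A.spec, A.π ⁻¹ᵁ U) Γ(Ω', A.π ⁻¹ᵁ U) :=
    IsScalarTower.of_algebraMap_smul fun _ _ => rfl
  show IsBaseChange Γ(A.spec, A.π ⁻¹ᵁ U) (PullBC11.sect θ (le_refl (A.π ⁻¹ᵁ U)))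
  refine IsBaseChange.of_equiv (hbc.equiv.trans e) fun t => ?_
  show e (hbc.equiv ((1 : Γ(A.spec, A.π ⁻¹ᵁ U)) ⊗ₜ t)) = M1.mres Ω' le_rfl (θ.app U t)
  rw [hbc.equiv_tmul, one_smul]
  show e (KaehlerDifferential.D Γ(S, U) Γ(A.spec, A.π ⁻¹ᵁ U) (ι t)) = _
  rw [Omega12.sectLinEquiv_D]
  refine (hφ U t (ι t) (hι₀ t)).symm.trans ?_
  refine Eq.trans ?_ (ConcreteCategory.congr_hom (Ω'.presheaf.map_id _) _).symm
  show _ = ((Scheme.Modules.pullbackPushforwardAdjunction A.π).homEquiv _ _ φ).app U t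
  rw [Adjunction.homEquiv_unit]
  rfl

end Groth.Agent.OmegaVB12
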